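import Cfsg.Agent.AltOre.Rep

/-!
# Two transpositions in both factors
-/

set_option autoImplicit false
set_option linter.style.haveILetI false

namespace CfsgLib.AltOre

open Equiv Equiv.Perm

theorem chain_six : Chain 6 {4} ({4} + {2}) :=
  ⟨List.formPerm [0, 5, 3, 4], List.formPerm [0, 2] * List.formPerm [1, 4, 5, 3], [0, 2, 5, 4, 3, 1], 1,
    by decide, rfl, by decide, by decide, by decide, by decide⟩

theorem rep_seven : Rep 7 {7} {3, 2, 2} {3, 2, 2} :=
  ⟨List.formPerm [0, 4] * List.formPerm [1, 5, 2] * List.formPerm [3, 6],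
    List.formPerm [0, 2, 3] * List.formPerm [1, 6] * List.formPerm [4, 5], by decide, by decide, by decide⟩

theorem rep_six_two : Rep 8 {6, 2} {3, 2, 2} {3, 2, 2} :=
  ⟨List.formPerm [0, 3, 1] * List.formPerm [4, 5] * List.formPerm [6, 7],
    List.formPerm [1, 7] * List.formPerm [2, 4] * List.formPerm [3, 5, 6], by decide, by decide, by decide⟩

theorem rep_five_three : Rep 8 {5, 3} {3, 2, 2} {3, 2, 2} :=
  ⟨List.formPerm [0, 4, 2] * List.formPerm [1, 6] * List.formPerm [3, 7],
    List.formPerm [0, 1] * List.formPerm [2, 6, 3] * List.formPerm [5, 7], by decide, by decide, by decide⟩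

theorem rep_four_three_two : Rep 9 {4, 3, 2} {3, 2, 2} {3, 2, 2} :=
  ⟨List.formPerm [0, 7] * List.formPerm [1, 2, 5] * List.formPerm [3, 8],
    List.formPerm [1, 8] * List.formPerm [2, 7, 3] * List.formPerm [4, 6], by decide, by decide, by decide⟩

theorem rep_pair_one : Rep 2 0 {2} {2} := ⟨swap 0 1, swap 0 1, by decide, by decide, by decide⟩

theorem rep_pair_two : Rep 4 {2, 2} {2, 2} {2, 2} :=
  ⟨swap 0 3 * swap 1 2, swap 0 1 * swap 2 3, by decide, by decide, by decide⟩

theorem rep_pair_three : Rep 6 {3, 3} {2, 2, 2} {2, 2, 2} :=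
  ⟨swap 0 5 * swap 1 4 * swap 2 3, swap 0 2 * swap 1 3 * swap 4 5, by decide, by decide, by decide⟩

theorem rep_pair_four : Rep 8 {4, 4} (Multiset.replicate 4 2) (Multiset.replicate 4 2) :=
  ⟨swap 0 6 * swap 1 2 * swap 3 4 * swap 5 7, swap 0 3 * swap 1 5 * swap 2 4 * swap 6 7,
    by decide, by decide, by decide⟩

theorem two_twos_even {j : ℕ} (hj : 2 ≤ j) (T : Multiset ℕ) (hT : T = {4} + Multiset.replicate j 2) (ho : Odd j) :
    2 ≤ T.count 2 ∧ Even (T.sum + T.card) := by
  subst hT
  obtain ⟨r, rfl⟩ := ho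
  refine ⟨by simp [Multiset.count_replicate]; omega, ?_⟩
  simp [Multiset.sum_replicate]
  exact ⟨3 * r + 4, by ring⟩

theorem rk_le {C : Multiset ℕ} : rk C ≤ C.sum := by
  induction C using Multiset.induction_on with
  | empty => simp [rk]
  | cons a C ih => rw [rk_cons, Multiset.sum_cons]; omega

theorem rk_add_card {C : Multiset ℕ} (hC : ∀ a ∈ C, 2 ≤ a) : rk C + C.card = C.sum := by
  induction C using Multiset.induction_on with
  | empty => simp [rk]
  | cons a C ih =>
    have := hC a (Multiset.mem_cons_self a C)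
    have := ih fun b hb => hC b (Multiset.mem_cons_of_mem hb)
    rw [rk_cons, Multiset.sum_cons, Multiset.card_cons]; omega

theorem small_cases : ∀ S ∈ Finset.powerset ({2, 3, 4, 5, 6, 7} : Finset ℕ), rk S.val = 2 ∨ rk S.val = 6 →
    S.val = {3} ∨ S.val = {7} ∨ S.val = {6, 2} ∨ S.val = {5, 3} ∨ S.val = {4, 3, 2} := by
  decide

/-- The combinatorial heart. -/
theorem rep_good {n : ℕ} {C : Multiset ℕ} (hn : 5 ≤ n) (hC : ∀ a ∈ C, 2 ≤ a) (hsum : C.sum ≤ n) (h0 : C ≠ 0)
    (heven : Even (C.sum + C.card)) : ∃ T, 2 ≤ T.count 2 ∧ Even (T.sum + T.card) ∧ Rep n C T T := by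
  have hrk : Even (rk C) := by
    have h1 := rk_add_card hC
    obtain ⟨r, hr⟩ := heven
    exact ⟨r - C.card, by omega⟩
  obtain ⟨K, hK⟩ := hrk
  have hsplit : ∀ {a : ℕ}, a ∈ C → ∃ D, C = a ::ₘ D ∧ (∀ b ∈ D, 2 ≤ b) ∧ a - 1 + rk D = 2 * K ∧
      a + D.sum = C.sum ∧ Rep D.sum D (Multiset.replicate (rk D / 2) 2) (Multiset.replicate (rk D - rk D / 2) 2) := by
    intro a ha
    obtain ⟨D, rfl⟩ := Multiset.exists_cons_of_mem ha
    have hD : ∀ b ∈ D, 2 ≤ b := fun b hb => hC b (Multiset.mem_cons_of_mem hb)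
    rw [rk_cons] at hK
    exact ⟨D, rfl, hD, by omega, (Multiset.sum_cons a D).symm, rep_invol hD⟩
  have hInv : ∀ j, 2 ≤ j → Even j → ∀ {m : ℕ}, m ≤ n → Rep m C (Multiset.replicate j 2) (Multiset.replicate j 2) →
      ∃ T, 2 ≤ T.count 2 ∧ Even (T.sum + T.card) ∧ Rep n C T T := fun j hj2 hje m hm h => by
    refine ⟨_, by simpa [Multiset.count_replicate] using hj2, ?_, h.mono hm⟩
    obtain ⟨r, rfl⟩ := hje
    simp [Multiset.sum_replicate]
    exact ⟨3 * r, by ring⟩
  have hK0 : 1 ≤ K := by
    obtain ⟨a, ha⟩ := Multiset.exists_mem_of_ne_zero h0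
    obtain ⟨D, -, -, h1, -, -⟩ := hsplit ha
    have := hC a ha
    omega
  have hbase := rep_invol hC
  rw [hK, show (K + K) / 2 = K by omega, Nat.add_sub_cancel] at hbase
  rcases Nat.even_or_odd K with hKe | hKo
  · exact hInv K (by obtain ⟨r, hr⟩ := hKe; omega) hKe hsum hbase
  have hK1 : Even (K + 1) := hKo.add_one
  -- two free points
  by_cases hF : C.sum + 2 ≤ n
  · have h := rep_pair_one.add hbase
    rw [zero_add, Multiset.singleton_add, ← Multiset.replicate_succ] at h
    exact hInv (K + 1) (by omega) hK1 (by omega) h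
  -- a repeated short length
  by_cases hrep : ∃ a, a ≤ 4 ∧ 2 ≤ C.count a
  · obtain ⟨a, ha4, hac⟩ := hrep
    have ha := Multiset.count_pos.1 (by omega : 0 < C.count a)
    obtain ⟨D₁, rfl⟩ := Multiset.exists_cons_of_mem ha
    rw [Multiset.count_cons_self] at hac
    obtain ⟨D, rfl⟩ := Multiset.exists_cons_of_mem (Multiset.count_pos.1 (by omega : 0 < D₁.count a))
    have hD : ∀ b ∈ D, 2 ≤ b := fun b hb => hC b (Multiset.mem_cons_of_mem (Multiset.mem_cons_of_mem hb))
    have h2 := hC a (Multiset.mem_cons_self _ _)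
    rw [rk_cons, rk_cons] at hK
    have hb := rep_invol hD
    rw [show rk D - rk D / 2 = rk D / 2 by omega] at hb
    have hp : Rep (2 * a) {a, a} (Multiset.replicate a 2) (Multiset.replicate a 2) := by
      interval_cases a
      · exact rep_pair_two
      · exact rep_pair_three
      · exact rep_pair_four
    have h := hp.add hb
    rw [← Multiset.replicate_add, show a + rk D / 2 = K + 1 by omega] at h
    rw [show ({a, a} : Multiset ℕ) + D = a ::ₘ a ::ₘ D by simp [Multiset.insert_eq_cons]] at h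
    refine hInv (K + 1) (by omega) hK1 ?_ h
    rw [Multiset.sum_cons, Multiset.sum_cons] at hsum
    omega
  push Not at hrep
  -- the case of weight six
  by_cases hK3 : K ≤ 3
  · have hcases : C = {3} ∨ C = {7} ∨ C = {6, 2} ∨ C = {5, 3} ∨ C = {4, 3, 2} := by
      have hall : ∀ a ∈ C, a ≤ 7 := fun a ha => by
        obtain ⟨D, -, -, h1, -, -⟩ := hsplit ha; omega
      have hcnt : ∀ a ∈ C, C.count a = 1 := fun a ha => by
        have h1 := Multiset.count_pos.2 ha
        by_cases h4 : a ≤ 4
        · have := hrep a h4; omega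
        · obtain ⟨D, rfl, -, h2, -, -⟩ := hsplit ha
          by_contra hc
          rw [Multiset.count_cons_self] at hc
          obtain ⟨D', rfl⟩ := Multiset.exists_cons_of_mem (Multiset.count_pos.1 (by omega : 0 < D.count a))
          rw [rk_cons] at h2
          omega
      have hnd : C.Nodup := Multiset.nodup_iff_count_le_one.2 fun a => by
        by_cases ha : a ∈ C
        · rw [hcnt a ha]
        · rw [Multiset.count_eq_zero_of_notMem ha]; omega
      have hmem : C ∈ (Finset.powerset ({2, 3, 4, 5, 6, 7} : Finset ℕ)).image Finset.val := by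
        refine Finset.mem_image.2 ⟨⟨C, hnd⟩, Finset.mem_powerset.2 fun a ha => ?_, rfl⟩
        have := hC a ha
        have := hall a ha
        simp only [Finset.mem_insert, Finset.mem_singleton]
        omega
      have hval : rk C = 2 ∨ rk C = 6 := by obtain ⟨r, hr⟩ := hKo; omega
      obtain ⟨S, hS, rfl⟩ := Finset.mem_image.1 hmem
      exact small_cases S hS hval
    rcases hcases with rfl | rfl | rfl | rfl | rfl
    · exfalso; simp at hF; omega
    · exact ⟨_, by decide, by decide, rep_seven.mono (by simpa using hsum)⟩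
    · exact ⟨_, by decide, by decide, rep_six_two.mono (by simpa using hsum)⟩
    · exact ⟨_, by decide, by decide, rep_five_three.mono (by simpa using hsum)⟩
    · exact ⟨_, by decide, by decide, rep_four_three_two.mono (by simpa using hsum)⟩
  -- a long cycle
  obtain ⟨a, ha, ha5⟩ : ∃ a ∈ C, 5 ≤ a := by
    by_contra hno
    push Not at hno
    have hnd : C.Nodup := Multiset.nodup_iff_count_le_one.2 fun a => by
      by_cases ha : a ∈ C
      · have := hrep a (Nat.le_of_lt_succ (hno a ha)); omega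
      · rw [Multiset.count_eq_zero_of_notMem ha]; omega
    have hle : C ≤ ({2, 3, 4} : Multiset ℕ) := (Multiset.le_iff_subset hnd).2 fun a ha => by
      have := hC a ha
      have := hno a ha
      simp only [Multiset.insert_eq_cons, Multiset.mem_cons, Multiset.mem_singleton]
      omega
    obtain ⟨R, hR⟩ := Multiset.le_iff_exists_add.1 hle
    have : rk ({2, 3, 4} : Multiset ℕ) = rk C + rk R := by rw [hR]; simp [rk]
    rw [show rk ({2, 3, 4} : Multiset ℕ) = 6 by decide] at this
    omega
  obtain ⟨D, rfl, hD, h1, h2, hb⟩ := hsplit ha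
  have hj : Odd (K - 2) := by obtain ⟨r, hr⟩ := hKo; exact ⟨r - 1, by omega⟩
  obtain ⟨i, hi⟩ : ∃ i, a = 5 + 2 * i ∨ a = 6 + 2 * i := ⟨(a - 5) / 2, by omega⟩
  rcases hi with rfl | rfl
  · have hp := (chain_five.iterate i).rep (by omega)
    rw [show rk D - rk D / 2 = rk D / 2 by omega] at hb
    have h := hp.add hb
    rw [Multiset.singleton_add, add_assoc ({4} : Multiset ℕ), ← Multiset.replicate_add,
      show i + rk D / 2 = K - 2 by omega] at h
    exact ⟨_, (two_twos_even (by omega) _ rfl hj).1, (two_twos_even (by omega) _ rfl hj).2, h.mono (by omega)⟩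
  · have hp := (chain_six.iterate i).rep (by omega)
    rw [add_assoc ({4} : Multiset ℕ) {2}, show ({2} : Multiset ℕ) + Multiset.replicate i 2 = Multiset.replicate (1 + i) 2
      by rw [Multiset.replicate_add, Multiset.replicate_one]] at hp
    have h := hp.add hb.symm
    rw [Multiset.singleton_add, add_assoc ({4} : Multiset ℕ), add_assoc ({4} : Multiset ℕ),
      ← Multiset.replicate_add, ← Multiset.replicate_add, show i + (rk D - rk D / 2) = K - 2 by omega,
      show 1 + i + rk D / 2 = K - 2 by omega] at h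
    exact ⟨_, (two_twos_even (by omega) _ rfl hj).1, (two_twos_even (by omega) _ rfl hj).2, h.mono (by omega)⟩

end CfsgLib.AltOre
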