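import Cfsg.Agent.AltOre.Flip
import Mathlib.GroupTheory.Commutator.Basic
import Mathlib.GroupTheory.Abelianization.Defs
import Mathlib.Tactic.Group

/-!
# Commutators in double covers of alternating groups
-/

set_option autoImplicit false
set_option linter.style.haveILetI false
set_option linter.unusedSectionVars false

namespace CfsgLib.AltOre

open Equiv Equiv.Perm
open scoped commutatorElement

variable {n : ℕ} {G : Type*} [Group G] [Finite G]

theorem two_three_cycles {o₁ o₂ i j : Fin n} (h12 : o₁ ≠ o₂) (hi1 : i ≠ o₁) (hi2 : i ≠ o₂) (hj1 : j ≠ o₁)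
    (hj2 : j ≠ o₂) (hij : i ≠ j) :
    swap o₁ o₂ * swap o₂ i * (swap o₁ o₂ * swap o₂ j) = swap o₁ i * swap o₂ j := by
  refine Equiv.ext fun x => ?_
  simp only [Perm.mul_apply, swap_apply_def]
  split_ifs <;> simp_all

theorem double_cycleType {p q r s : Fin n} (hpq : p ≠ q) (hrs : r ≠ s) (hpr : p ≠ r) (hps : p ≠ s) (hqr : q ≠ r)
    (hqs : q ≠ s) : (swap p q * swap r s).cycleType = {2, 2} ∧ sign (swap p q * swap r s) = 1 := by
  refine ⟨?_, by rw [map_mul, sign_swap hpq, sign_swap hrs]; decide⟩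
  rw [Perm.Disjoint.cycleType_mul, (IsSwap.isCycle ⟨_, _, hpq, rfl⟩).cycleType,
    (IsSwap.isCycle ⟨_, _, hrs, rfl⟩).cycleType, support_swap hpq, support_swap hrs, Finset.card_pair hpq,
    Finset.card_pair hrs]
  · rfl
  intro w
  by_cases hw : w = p ∨ w = q
  · refine Or.inr (swap_apply_of_ne_of_ne ?_ ?_) <;> rcases hw with rfl | rfl <;> assumption
  · push Not at hw
    exact Or.inl (swap_apply_of_ne_of_ne hw.1 hw.2)

/-- A double cover, projected to the symmetric group. -/
structure Cover (G : Type*) [Group G] (n : ℕ) where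
  /-- The projection. -/
  pr : G →* Perm (Fin n)
  sgn : ∀ g, sign (pr g) = 1
  surj : ∀ σ : Perm (Fin n), sign σ = 1 → ∃ g, pr g = σ
  ker : ∀ g, pr g = 1 ↔ g ∈ Subgroup.center G
  z : G
  hz : z ∈ Subgroup.center G
  hz1 : z ≠ 1
  two : ∀ g ∈ Subgroup.center G, g = 1 ∨ g = z

namespace Cover

variable (c : Cover G n)

theorem z_mul_z : c.z * c.z = 1 := by
  rcases c.two _ (mul_mem c.hz c.hz) with h | h
  · exact h
  · exact absurd (by simpa using h) c.hz1

theorem z_comm (g : G) : g * c.z = c.z * g := Subgroup.mem_center_iff.1 c.hz g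

theorem eq_or {g h : G} (e : c.pr g = c.pr h) : g = h ∨ g = h * c.z := by
  rcases c.two (h⁻¹ * g) ((c.ker _).1 (by rw [map_mul, map_inv, e, inv_mul_cancel])) with h1 | h1
  · exact Or.inl (inv_mul_eq_one.1 h1).symm
  · exact Or.inr (eq_mul_of_inv_mul_eq h1)

theorem sq_congr {g h : G} (e : c.pr g = c.pr h) : g * g = h * h := by
  rcases c.eq_or e with rfl | rfl
  · rfl
  · rw [mul_assoc h, ← mul_assoc c.z, ← c.z_comm h, mul_assoc h c.z, c.z_mul_z, mul_one]

/-- Without square roots of the centre over double transpositions the extension splits. -/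
theorem false_of_split (hperf : commutator G = ⊤) (hn : 5 ≤ n)
    (h : ∀ g : G, (c.pr g).cycleType = {2, 2} → g * g = 1) : False := by
  classical
  let pt : ℕ → Fin n := fun i => if hi : i < n then ⟨i, hi⟩ else ⟨0, by omega⟩
  have hpt : ∀ {i j : ℕ}, i < n → j < n → i ≠ j → pt i ≠ pt j := fun {i j} hi hj hij e => hij (by
    simpa [pt, hi, hj] using e)
  let cyc : ℕ → Perm (Fin n) := fun i => swap (pt 0) (pt 1) * swap (pt 1) (pt i)
  have hne01 : pt 0 ≠ pt 1 := hpt (by omega) (by omega) (by omega)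
  have hlift : ∀ i, ∃ x : G, (2 ≤ i → i < n → c.pr x = cyc i ∧ x * x * x = 1) := by
    intro i
    by_cases hi : 2 ≤ i ∧ i < n
    swap
    · exact ⟨1, fun h1 h2 => absurd ⟨h1, h2⟩ hi⟩
    have h1i := hpt (by omega : 1 < n) hi.2 (by omega)
    obtain ⟨t, ht⟩ := c.surj (cyc i) (by simp [cyc, sign_swap hne01, sign_swap h1i])
    have h3 : cyc i * cyc i * cyc i = 1 := by
      have h0i := hpt (by omega : 0 < n) hi.2 (by omega)
      have h := (isThreeCycle_swap_mul_swap_same hne01.symm h1i h0i).orderOf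
      rw [show cyc i = swap (pt 1) (pt 0) * swap (pt 1) (pt i) by simp [cyc, swap_comm (pt 0) (pt 1)],
        ← sq, ← pow_succ, show 2 + 1 = 3 from rfl, ← h, pow_orderOf_eq_one]
    rcases c.two (t * t * t) ((c.ker _).1 (by rw [map_mul, map_mul, ht, h3])) with e | e
    · exact ⟨t, fun _ _ => ⟨ht, e⟩⟩
    · refine ⟨t * c.z, fun _ _ => ⟨by rw [map_mul, (c.ker c.z).2 c.hz, mul_one, ht], ?_⟩⟩
      have : Commute t c.z := c.z_comm t
      rw [← sq, ← pow_succ, this.mul_pow, pow_succ, sq, e, pow_succ, sq, c.z_mul_z, one_mul, c.z_mul_z]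
  choose x hx using hlift
  have hrel : ∀ {i j}, 2 ≤ i → i < n → 2 ≤ j → j < n → i ≠ j → x i * x j * (x i * x j) = 1 := by
    intro i j hi hin hj hjn hij
    refine h _ ?_
    rw [map_mul, (hx i hi hin).1, (hx j hj hjn).1, two_three_cycles hne01 (hpt hin (by omega) (by omega))
      (hpt hin (by omega) (by omega)) (hpt hjn (by omega) (by omega)) (hpt hjn (by omega) (by omega))
      (hpt hin hjn hij)]
    exact (double_cycleType (hpt (by omega) hin (by omega)) (hpt (by omega) hjn (by omega)) hne01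
      (hpt (by omega) hjn (by omega)) (hpt hin (by omega) (by omega)) (hpt hin hjn hij)).1
  let Y : ℕ → Subgroup G := fun k => Subgroup.closure (x '' {i | 2 ≤ i ∧ i < k})
  have main : ∀ k, 2 ≤ k → k ≤ n → (∀ g ∈ Y k, ∀ p : Fin n, k ≤ (p : ℕ) → c.pr g p = p) ∧
      2 * Nat.card (Y k) ≤ k.factorial ∧ k.factorial ≤ 2 * Nat.card ((Y k).map c.pr) := by
    intro k hk
    induction k, hk using Nat.le_induction with
    | base =>
      intro _
      have : Y 2 = ⊥ := by
        refine (Subgroup.closure_eq_bot_iff).2 ?_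
        rintro g ⟨i, ⟨h1, h2⟩, rfl⟩; omega
      refine ⟨fun g hg p _ => ?_, ?_, ?_⟩
      · rw [this, Subgroup.mem_bot] at hg; simp [hg]
      · simp [this, Nat.factorial]
      · simp [this, Nat.factorial]
    | succ k hk ih =>
      intro hkn
      obtain ⟨hfix, hup, hlow⟩ := ih (by omega)
      obtain ⟨htp, ht3⟩ := hx k hk (by omega)
      have hle : Y k ≤ Y (k + 1) :=
        Subgroup.closure_mono (Set.image_mono fun i hi => ⟨hi.1, by have := hi.2; omega⟩)
      have htY : (x k) ∈ Y (k + 1) := Subgroup.subset_closure ⟨k, ⟨hk, by omega⟩, rfl⟩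
      have hxY : ∀ i, 2 ≤ i → i < k → x i ∈ Y k := fun i h1 h2 => Subgroup.subset_closure ⟨i, ⟨h1, h2⟩, rfl⟩
      let rep : Fin (k + 1) → G := fun j => if (j : ℕ) = 0 then (x k) * (x k) else if (j : ℕ) = 1 then (x k)
        else if (j : ℕ) = k then 1 else (x k) * (x k) * x j
      let S : Set G := {g | ∃ y ∈ Y k, ∃ j, g = y * rep j}
      have mk : ∀ {g : G} (y : G) (j : ℕ) (hj : j < k + 1), y ∈ Y k → g = y * rep ⟨j, hj⟩ → g ∈ S :=
        fun y j hj hy e => ⟨y, hy, ⟨j, hj⟩, e⟩
      have r0 : rep ⟨0, by omega⟩ = (x k) * (x k) := rfl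
      have r1 : rep ⟨1, by omega⟩ = (x k) := rfl
      have rk' : rep ⟨k, by omega⟩ = 1 := by
        simp [rep, show k ≠ 0 by omega, show k ≠ 1 by omega]
      have rmid : ∀ j (hj2 : 2 ≤ j) (hjk : j < k), rep ⟨j, by omega⟩ = (x k) * (x k) * x j := fun j hj2 hjk => by
        simp only [rep]; rw [if_neg (by omega), if_neg (by omega), if_neg (by omega)]
      have hxi : ∀ i, 2 ≤ i → i < n → (x i)⁻¹ = x i * x i := fun i hi hin =>
        inv_eq_of_mul_eq_one_right (by rw [← mul_assoc]; exact (hx i hi hin).2)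
      -- the basic rewriting rules
      have swapR : ∀ {a b : G}, a * b * (a * b) = 1 → a * a * a = 1 → b * b * b = 1 → b * a = a * a * (b * b) := by
        intro a b hab ha hb
        calc b * a = a⁻¹ * (a * b * (a * b)) * b⁻¹ := by group
          _ = a⁻¹ * b⁻¹ := by rw [hab, mul_one]
          _ = a * a * (b * b) := by
            rw [inv_eq_of_mul_eq_one_right (b := a * a) (by rw [← mul_assoc, ha]),
              inv_eq_of_mul_eq_one_right (b := b * b) (by rw [← mul_assoc, hb])]
      have hclosed : ∀ y ∈ Y k, ∀ j : Fin (k + 1), ∀ i, 2 ≤ i → i < k + 1 → y * rep j * x i ∈ S := by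
        intro y hy j i hi hik
        obtain ⟨hip, hi3⟩ := hx i hi (by omega)
        rcases (show (j : ℕ) = 0 ∨ (j : ℕ) = 1 ∨ (j : ℕ) = k ∨ (2 ≤ (j : ℕ) ∧ (j : ℕ) < k) by omega) with
          h0 | h1 | h2 | ⟨h3, h4⟩
        · rw [show j = ⟨0, by omega⟩ from Fin.ext h0, r0]
          rcases Nat.lt_or_ge i k with hlt | hge
          · exact mk y i (by omega) hy (by rw [rmid i hi hlt, mul_assoc y, mul_assoc])
          · have hik' : i = k := by omega
            subst i
            exact mk y k (by omega) hy (by rw [rk', mul_assoc y, ht3])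
        · rw [show j = ⟨1, by omega⟩ from Fin.ext h1, r1]
          rcases Nat.lt_or_ge i k with hlt | hge
          · -- (x k) * x i = (x i)⁻¹ * (x k)⁻¹
            refine mk (y * (x i * x i)) 0 (by omega) (mul_mem hy (mul_mem (hxY i hi hlt) (hxY i hi hlt))) ?_
            rw [r0, mul_assoc y, swapR (hrel hi (by omega) hk (by omega) (by omega)) hi3 ht3]
            simp only [mul_assoc]
          · have hik' : i = k := by omega
            subst i
            exact mk y 0 (by omega) hy (by rw [r0, mul_assoc])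
        · rw [show j = ⟨k, by omega⟩ from Fin.ext h2, rk', mul_one]
          rcases Nat.lt_or_ge i k with hlt | hge
          · exact mk (y * x i) k (by omega) (mul_mem hy (hxY i hi hlt)) (by rw [rk', mul_one])
          · have hik' : i = k := by omega
            subst i
            exact mk y 1 (by omega) hy (by rw [r1])
        · obtain ⟨hjp, hj3⟩ := hx (j : ℕ) h3 (by omega)
          rw [show j = ⟨(j : ℕ), j.isLt⟩ from rfl, rmid _ h3 h4]
          rcases eq_or_ne i (j : ℕ) with hij | hij
          · -- t² x² = (x (x k))⁻¹ = x (x k)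
            subst hij
            refine mk (y * x (j : ℕ)) 1 (by omega) (mul_mem hy (hxY _ h3 h4)) ?_
            have e := hrel h3 (by omega : (j : ℕ) < n) hk (by omega) (by omega)
            rw [r1]
            calc y * ((x k) * (x k) * x (j : ℕ)) * x (j : ℕ) = y * ((x k) * (x k) * (x (j : ℕ) * x (j : ℕ))) := by
                  simp only [mul_assoc]
              _ = y * ((x k)⁻¹ * (x (j : ℕ))⁻¹) := by rw [hxi k hk (by omega), hxi _ h3 (by omega)]
              _ = y * (x (j : ℕ) * (x k)) := by rw [← mul_inv_rev, inv_eq_of_mul_eq_one_right e]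
              _ = y * x (j : ℕ) * (x k) := by rw [mul_assoc]
          rcases Nat.lt_or_ge i k with hlt | hge
          · -- x j * x i = (x i)⁻¹ * (x j)⁻¹, twice
            refine mk (y * (x i * (x (j : ℕ) * x (j : ℕ)))) (j : ℕ) j.isLt
              (mul_mem hy (mul_mem (hxY i hi hlt) (mul_mem (hxY _ h3 h4) (hxY _ h3 h4)))) ?_
            rw [rmid _ h3 h4]
            have e1 := swapR (hrel hi (by omega) h3 (by omega) hij) hi3 hj3
            have e2 : (x k) * (x k) * (x i * x i) = x i * (x k) := by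
              rw [swapR (hrel (by omega : 2 ≤ k) (by omega) hi (by omega) (by omega)) ht3 hi3]
            have e3 : (x k) * (x (j : ℕ) * x (j : ℕ)) = x (j : ℕ) * x (j : ℕ) * ((x k) * (x k)) * x (j : ℕ) := by
              have e := hrel h3 (by omega : (j : ℕ) < n) hk (by omega) (by omega)
              calc (x k) * (x (j : ℕ) * x (j : ℕ))
                  = (x (j : ℕ))⁻¹ * (x (j : ℕ) * (x k) * (x (j : ℕ) * (x k))) * (x k)⁻¹ * x (j : ℕ) := by group
                _ = (x (j : ℕ))⁻¹ * (x k)⁻¹ * x (j : ℕ) := by rw [e, mul_one]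
                _ = _ := by rw [hxi k hk (by omega), hxi _ h3 (by omega)]
            calc y * ((x k) * (x k) * x (j : ℕ)) * x i = y * ((x k) * (x k) * (x (j : ℕ) * x i)) := by simp only [mul_assoc]
              _ = y * ((x k) * (x k) * (x i * x i) * (x (j : ℕ) * x (j : ℕ))) := by rw [e1]; simp only [mul_assoc]
              _ = y * (x i * ((x k) * (x (j : ℕ) * x (j : ℕ)))) := by rw [e2]; simp only [mul_assoc]
              _ = _ := by rw [e3]; simp only [mul_assoc]
          · have hik' : i = k := by omega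
            subst i
            refine mk (y * (x (j : ℕ) * x (j : ℕ))) (j : ℕ) j.isLt (mul_mem hy (mul_mem (hxY _ h3 h4) (hxY _ h3 h4))) ?_
            rw [rmid _ h3 h4]
            have e1 := swapR (hrel hk (by omega) h3 (by omega) (by omega)) ht3 hj3
            calc y * ((x k) * (x k) * x (j : ℕ)) * (x k) = y * ((x k) * (x k) * (x (j : ℕ) * (x k))) := by simp only [mul_assoc]
              _ = y * ((x k) * (x k) * (x k) * (x k) * (x (j : ℕ) * x (j : ℕ))) := by rw [e1]; simp only [mul_assoc]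
              _ = y * ((x k) * x (j : ℕ) * x (j : ℕ)) := by rw [ht3, one_mul]; simp only [mul_assoc]
              _ = y * ((x k) * (x (j : ℕ) * x (j : ℕ))) := by simp only [mul_assoc]
              _ = _ := by
                rw [show (x k) * (x (j : ℕ) * x (j : ℕ)) = (x (j : ℕ))⁻¹ * (x (j : ℕ) * (x k) * (x (j : ℕ) * (x k))) * (x k)⁻¹ * x (j : ℕ)
                  by group, hrel h3 (by omega) hk (by omega) (by omega), mul_one, hxi k hk (by omega), hxi _ h3 (by omega)]
                simp only [mul_assoc]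
      have hmem : ∀ g ∈ Y (k + 1), g ∈ S := by
        intro g hg
        induction hg using Subgroup.closure_induction_right with
        | one => exact mk 1 k (by omega) (one_mem _) (by rw [rk', one_mul])
        | mul_right a _ b hb ha =>
          obtain ⟨i, ⟨hi, hik⟩, rfl⟩ := hb
          obtain ⟨y, hy, j, rfl⟩ := ha
          exact hclosed y hy j i hi hik
        | mul_inv_cancel a _ b hb ha =>
          obtain ⟨i, ⟨hi, hik⟩, rfl⟩ := hb
          obtain ⟨y, hy, j, rfl⟩ := ha
          rw [hxi i hi (by omega), ← mul_assoc]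
          obtain ⟨y', hy', j', e'⟩ := hclosed y hy j i hi hik
          rw [e']
          exact hclosed y' hy' j' i hi hik
      have hsub : ∀ y : Y k, ∀ j, (y : G) * rep j ∈ Y (k + 1) := by
        intro y j
        refine mul_mem (hle y.2) ?_
        simp only [rep]
        split_ifs with a b e
        · exact mul_mem htY htY
        · exact htY
        · exact one_mem _
        · exact mul_mem (mul_mem htY htY) (hle (hxY _ (by omega) (by omega)))
      refine ⟨fun g hg p hp => ?_, ?_, ?_⟩
      · induction hg using Subgroup.closure_induction with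
        | mem g hg =>
          obtain ⟨i, ⟨hi, hik⟩, rfl⟩ := hg
          rw [(hx i hi (by omega)).1]
          have hne : ∀ l, l < k + 1 → p ≠ pt l := fun l hl e => by
            have hln : l < n := by omega
            rw [e] at hp; simp [pt, hln] at hp; omega
          simp [cyc, swap_apply_of_ne_of_ne (hne 1 (by omega)) (hne i hik),
            swap_apply_of_ne_of_ne (hne 0 (by omega)) (hne 1 (by omega))]
        | one => simp
        | mul a b _ _ ha hb => rw [map_mul, Perm.mul_apply, hb, ha]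
        | inv a _ ha => rw [map_inv, Perm.inv_def, Equiv.symm_apply_eq]; exact ha.symm
      · let f : Y k × Fin (k + 1) → Y (k + 1) := fun w => ⟨_, hsub w.1 w.2⟩
        have hf : Function.Surjective f := fun g => by
          obtain ⟨y, hy, j, e⟩ := hmem g.1 g.2
          exact ⟨(⟨y, hy⟩, j), Subtype.ext e.symm⟩
        have := Nat.card_le_card_of_surjective f hf
        rw [Nat.card_prod, Nat.card_fin] at this
        rw [Nat.factorial_succ]
        calc 2 * Nat.card (Y (k + 1)) ≤ 2 * (Nat.card (Y k) * (k + 1)) := Nat.mul_le_mul_left 2 this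
          _ = (k + 1) * (2 * Nat.card (Y k)) := by ring
          _ ≤ _ := Nat.mul_le_mul_left _ hup
      · let f : (Y k).map c.pr × Fin (k + 1) → (Y (k + 1)).map c.pr := fun w => ⟨(w.1 : Perm (Fin n)) * c.pr (rep w.2), by
          obtain ⟨y, hy, e⟩ := Subgroup.mem_map.1 w.1.2
          exact ⟨y * rep w.2, hsub ⟨y, hy⟩ _, by rw [map_mul, e]⟩⟩
        have himg : ∀ j : Fin (k + 1), c.pr (rep j) (pt (j : ℕ)) = pt k := by
          intro j
          have h0k := hpt (by omega : 0 < n) (by omega : k < n) (by omega)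
          have h1k := hpt (by omega : 1 < n) (by omega : k < n) (by omega)
          have tk : cyc k (pt 0) = pt 1 := by simp [cyc, swap_apply_of_ne_of_ne hne01 h0k]
          have t1 : cyc k (pt 1) = pt k := by simp [cyc, swap_apply_of_ne_of_ne h0k.symm h1k.symm]
          rcases (show (j : ℕ) = 0 ∨ (j : ℕ) = 1 ∨ (j : ℕ) = k ∨ (2 ≤ (j : ℕ) ∧ (j : ℕ) < k) by omega) with
            h0 | h1 | h2 | ⟨h3, h4⟩
          · rw [show j = ⟨0, by omega⟩ from Fin.ext h0, r0, map_mul, htp, Perm.mul_apply]
            show cyc k (cyc k (pt 0)) = pt k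
            rw [tk, t1]
          · rw [show j = ⟨1, by omega⟩ from Fin.ext h1, r1, htp]
            exact t1
          · rw [show j = ⟨k, by omega⟩ from Fin.ext h2, rk', map_one]
            rfl
          · rw [show j = ⟨(j : ℕ), j.isLt⟩ from rfl, rmid _ h3 h4, map_mul, map_mul, htp,
              (hx _ h3 (by omega)).1, Perm.mul_apply, Perm.mul_apply]
            have h1j := hpt (by omega : 1 < n) (by omega : (j : ℕ) < n) (by omega)
            have tj : cyc (j : ℕ) (pt (j : ℕ)) = pt 0 := by simp [cyc]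
            show cyc k (cyc k (cyc (j : ℕ) (pt (j : ℕ)))) = pt k
            rw [tj, tk, t1]
        have hf : Function.Injective f := by
          rintro ⟨⟨a, ha⟩, j⟩ ⟨⟨b, hb⟩, j'⟩ e
          have e' : a * c.pr (rep j) = b * c.pr (rep j') := congrArg Subtype.val e
          have hk0 : ∀ s ∈ (Y k).map c.pr, s (pt k) = pt k := by
            rintro _ ⟨y, hy, rfl⟩
            exact hfix y hy _ (by simp [pt, show k < n by omega])
          have ea := congrArg (fun s : Perm (Fin n) => s (pt (j : ℕ))) e'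
          simp only [Perm.mul_apply, himg, hk0 a ha] at ea
          have hj : j = j' := by
            have e2 : (b * c.pr (rep j')) (pt (j : ℕ)) = (b * c.pr (rep j')) (pt (j' : ℕ)) := by
              rw [Perm.mul_apply, ← ea, Perm.mul_apply, himg, hk0 b hb]
            have e3 := (b * c.pr (rep j')).injective e2
            by_contra hne
            exact hpt (by omega) (by omega) (fun h => hne (Fin.ext h)) e3
          subst hj
          simpa using e'
        have := Nat.card_le_card_of_injective f hf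
        rw [Nat.card_prod, Nat.card_fin] at this
        rw [Nat.factorial_succ]
        calc (k + 1) * k.factorial ≤ (k + 1) * (2 * Nat.card ((Y k).map c.pr)) := Nat.mul_le_mul_left _ hlow
          _ = 2 * (Nat.card ((Y k).map c.pr) * (k + 1)) := by ring
          _ ≤ _ := Nat.mul_le_mul_left 2 this
  obtain ⟨-, hup, hlow⟩ := main n (by omega) le_rfl
  haveI : Nontrivial (Fin n) := Fin.nontrivial_iff_two_le.2 (by omega)
  have hA : 2 * Nat.card (alternatingGroup (Fin n)) = n.factorial := by
    rw [two_mul_nat_card_alternatingGroup]; simp [Fintype.card_perm]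
  have hmap : (Y n).map c.pr = alternatingGroup (Fin n) :=
    Subgroup.eq_of_le_of_card_ge (fun s hs => by
      obtain ⟨g, -, rfl⟩ := Subgroup.mem_map.1 hs; exact c.sgn g) (by omega)
  have hsurj : Function.Surjective (fun g : Y n => (⟨c.pr g, Subgroup.mem_map_of_mem _ g.2⟩ : (Y n).map c.pr)) :=
    fun s => by
      obtain ⟨g, hg, e⟩ := Subgroup.mem_map.1 s.2
      exact ⟨⟨g, hg⟩, Subtype.ext e⟩
  have hcard : Nat.card (Y n) = Nat.card ((Y n).map c.pr) :=
    le_antisymm (by omega) (Nat.card_le_card_of_surjective _ hsurj)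
  have hinj := ((Nat.bijective_iff_surjective_and_card _).2 ⟨hsurj, hcard⟩).injective
  have hdec : ∀ g : G, g ∈ Y n ∨ g * c.z ∈ Y n := fun g => by
    obtain ⟨y, hy, e⟩ := Subgroup.mem_map.1 (show c.pr g ∈ (Y n).map c.pr by rw [hmap]; exact c.sgn g)
    rcases c.eq_or e.symm with h' | h'
    · exact Or.inl (h' ▸ hy)
    · refine Or.inr ?_
      rw [h', mul_assoc, c.z_mul_z, mul_one]; exact hy
  have hcomm : commutator G ≤ Y n := by
    rw [commutator_def, Subgroup.commutator_le]
    intro a _ b _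
    have hz : ∀ g h : G, ⁅g * c.z, h⁆ = ⁅g, h⁆ ∧ ⁅g, h * c.z⁆ = ⁅g, h⁆ := fun g h => by
      constructor <;> simp only [commutatorElement_def, mul_inv_rev]
      · calc g * c.z * h * (c.z⁻¹ * g⁻¹) * h⁻¹ = g * (c.z * h) * c.z⁻¹ * g⁻¹ * h⁻¹ := by group
          _ = _ := by rw [← c.z_comm h]; group
      · calc g * (h * c.z) * g⁻¹ * (c.z⁻¹ * h⁻¹) = g * h * (c.z * g⁻¹) * c.z⁻¹ * h⁻¹ := by group
          _ = _ := by rw [← c.z_comm g⁻¹]; group
    have key : ∀ g h : G, g ∈ Y n → h ∈ Y n → ⁅g, h⁆ ∈ Y n := fun g h hg hh => by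
      rw [commutatorElement_def]; exact mul_mem (mul_mem (mul_mem hg hh) (inv_mem hg)) (inv_mem hh)
    rcases hdec a with ha | ha <;> rcases hdec b with hb | hb
    · exact key a b ha hb
    · exact (hz a b).2 ▸ key _ _ ha hb
    · exact (hz a b).1 ▸ key _ _ ha hb
    · exact (hz a b).1 ▸ (hz (a * c.z) b).2 ▸ key _ _ ha hb
  have hzY : c.z ∈ Y n := hcomm (hperf ▸ Subgroup.mem_top _)
  exact c.hz1 (congrArg Subtype.val (@hinj ⟨c.z, hzY⟩ 1 (Subtype.ext (by simp [(c.ker c.z).2 c.hz]))))

/-- Double transpositions lift to elements of order four. -/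
theorem sq_eq_z (hperf : commutator G = ⊤) (hn : 5 ≤ n) {g : G} (hg : (c.pr g).cycleType = {2, 2}) :
    g * g = c.z := by
  by_contra hne
  have hg1 : g * g = 1 := by
    have hp : c.pr (g * g) = 1 := by
      rw [map_mul, ← sq, ← orderOf_dvd_iff_pow_eq_one, ← lcm_cycleType, hg]; decide
    exact (c.two _ ((c.ker _).1 hp)).resolve_right hne
  refine c.false_of_split hperf hn fun u hu => ?_
  obtain ⟨k, hk⟩ := isConj_iff.1 (isConj_iff_cycleType_eq.2 (hg.trans hu.symm))
  obtain ⟨k', hk's, hk'⟩ : ∃ k', sign k' = 1 ∧ k' * c.pr g * k'⁻¹ = c.pr u := by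
    rcases Int.units_eq_one_or (sign k) with hs | hs
    · exact ⟨k, hs, hk⟩
    obtain ⟨σ, hσ⟩ := Finset.card_pos.1 (show 0 < (c.pr g).cycleFactorsFinset.card by
      have := congrArg Multiset.card hg
      rw [cycleType_def] at this
      simp at this
      omega)
    have h2 : σ.support.card = 2 := by
      have : σ.support.card ∈ (c.pr g).cycleType := by
        rw [cycleType_def]; exact Multiset.mem_map.2 ⟨σ, hσ, rfl⟩
      rw [hg] at this; simpa using this
    refine ⟨k * σ, by rw [map_mul, hs, (card_support_eq_two.1 h2).sign_eq]; decide, ?_⟩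
    rw [mul_inv_rev, mul_assoc k σ, (self_mem_cycle_factors_commute hσ).eq, ← hk]
    group
  obtain ⟨a, rfl⟩ := c.surj k' hk's
  have e : c.pr (a * g * a⁻¹) = c.pr u := by rw [map_mul, map_mul, map_inv, hk']
  rw [← c.sq_congr e, show a * g * a⁻¹ * (a * g * a⁻¹) = a * (g * g) * a⁻¹ by group, hg1, mul_one, mul_inv_cancel]

theorem comm_mem {a b : G} (e : Commute (c.pr a) (c.pr b)) : ⁅a, b⁆ ∈ Subgroup.center G :=
  (c.ker _).1 (by rw [map_commutatorElement, commutatorElement_eq_one_iff_commute.2 e])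

/-- Elements of a commutator with a nonsplit second entry. -/
theorem exists_commutator_aux {b d : G} (hbd : ⁅d, b⁆ = c.z) {a g : G} (e : c.pr ⁅a, b⁆ = c.pr g) :
    ∃ a' b' : G, a' * b' * a'⁻¹ * b'⁻¹ = g := by
  rcases c.eq_or e.symm with h | h
  · exact ⟨a, b, by rw [h, commutatorElement_def]⟩
  · refine ⟨a * d, b, ?_⟩
    rw [h, show a * d * b * (a * d)⁻¹ * b⁻¹ = a * ⁅d, b⁆ * a⁻¹ * ⁅a, b⁆ by
      simp only [commutatorElement_def]; group, hbd, c.z_comm a, mul_inv_cancel_right, c.z_comm]

/-- Anticommuting lifts. -/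
theorem anticomm (hperf : commutator G = ⊤) (hn : 5 ≤ n) {p q r s : Fin n} (hpq : p ≠ q) (hrs : r ≠ s) (hpr : p ≠ r)
    (hps : p ≠ s) (hqr : q ≠ r) (hqs : q ≠ s) {a b : G} (ha : c.pr a = swap p r * swap q s)
    (hb : c.pr b = swap p q * swap r s) : ⁅a, b⁆ = c.z := by
  have e : swap p r * swap q s * (swap p q * swap r s) = swap p s * swap q r := by
    refine Equiv.ext fun x => ?_
    simp only [Perm.mul_apply, swap_apply_def]
    split_ifs <;> simp_all
  have h1 := c.sq_eq_z hperf hn (g := a) (by rw [ha]; exact (double_cycleType hpr hqs hpq hps hqr.symm hrs).1)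
  have h2 := c.sq_eq_z hperf hn (g := b) (by rw [hb]; exact (double_cycleType hpq hrs hpr hps hqr hqs).1)
  have h3 := c.sq_eq_z hperf hn (g := a * b)
    (by rw [map_mul, ha, hb, e]; exact (double_cycleType hps hqr hpq hpr hqs.symm (Ne.symm hrs)).1)
  calc ⁅a, b⁆ = a * b * (a * b) * (b⁻¹ * (a * a)⁻¹ * b⁻¹) := by simp only [commutatorElement_def]; group
    _ = c.z * ((b * b)⁻¹ * c.z⁻¹) := by
      rw [h3, h1]
      congr 1
      rw [mul_inv_rev, mul_assoc, mul_assoc]
      congr 1
      rw [← mul_inv_rev b c.z, ← mul_inv_rev, c.z_comm b]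
    _ = c.z := by rw [h2, ← mul_inv_rev, c.z_mul_z, inv_one, mul_one]

/-- Even permutations off four points commute with lifts on them. -/
theorem off_commute {d : G} {F : Finset (Fin n)} (hd : ∀ w, w ∉ F → c.pr d w = w) (hdF : ∀ w ∈ F, c.pr d w ∈ F)
    {r : Perm (Fin n)} (hr : ∀ w ∈ F, r w = w) (hrs : sign r = 1) :
    ∀ g : G, c.pr g = r → ⁅d, g⁆ = 1 := by
  classical
  have hcom : ∀ ρ : Perm (Fin n), (∀ w ∈ F, ρ w = w) → Commute (c.pr d) ρ := fun ρ hρ => by
    refine Equiv.ext fun w => ?_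
    by_cases hw : w ∈ F
    · rw [Perm.mul_apply, Perm.mul_apply, hρ w hw, hρ _ (hdF w hw)]
    · have : ρ w ∉ F := fun hc => by
        have := ρ.injective (hρ _ hc); rw [this] at hc; exact hw hc
      rw [Perm.mul_apply, Perm.mul_apply, hd w hw, hd _ this]
  let H : Subgroup (Perm (Fin n)) :=
    { carrier := {ρ | (∀ w ∈ F, ρ w = w) ∧ sign ρ = 1 ∧ ∀ g : G, c.pr g = ρ → ⁅d, g⁆ = 1}
      one_mem' := ⟨fun _ _ => rfl, map_one _, fun g hg =>
        commutatorElement_eq_one_iff_commute.2 (Subgroup.mem_center_iff.1 ((c.ker g).1 hg) d)⟩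
      mul_mem' := by
        rintro ρ τ ⟨h1, h1', h1''⟩ ⟨h2, h2', h2''⟩
        refine ⟨fun w hw => by rw [Perm.mul_apply, h2 w hw, h1 w hw], by rw [map_mul, h1', h2', one_mul],
          fun g hg => ?_⟩
        obtain ⟨a, rfl⟩ := c.surj ρ h1'
        have hb : c.pr (a⁻¹ * g) = τ := by rw [map_mul, map_inv, hg, inv_mul_cancel_left]
        have ha := commutatorElement_eq_one_iff_commute.1 (h1'' a rfl)
        have hb' := commutatorElement_eq_one_iff_commute.1 (h2'' _ hb)
        exact commutatorElement_eq_one_iff_commute.2 (by simpa using ha.mul_right hb')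
      inv_mem' := by
        rintro ρ ⟨h1, h1', h1''⟩
        refine ⟨fun w hw => by rw [Perm.inv_def, Equiv.symm_apply_eq, h1 w hw], by rw [map_inv, h1', inv_one],
          fun g hg => ?_⟩
        have ha := commutatorElement_eq_one_iff_commute.1 (h1'' g⁻¹ (by rw [map_inv, hg, inv_inv]))
        exact commutatorElement_eq_one_iff_commute.2 (by simpa using ha.inv_right) }
  suffices r ∈ H from this.2.2
  obtain ⟨r', rfl⟩ : ∃ r' : Perm {w // w ∉ F}, ofSubtype r' = r := by
    have hmem : ∀ w, r w ∉ F ↔ w ∉ F := fun w => by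
      refine not_congr ⟨fun hc => ?_, fun hc => by rwa [hr w hc]⟩
      have := r.injective (hr _ hc); rwa [this] at hc
    exact ⟨r.subtypePerm hmem, ofSubtype_subtypePerm hmem fun w hw => fun hc => hw (hr w hc)⟩
  rw [sign_ofSubtype] at hrs
  have hle : alternatingGroup {w // w ∉ F} ≤ H.comap (ofSubtype : Perm {w // w ∉ F} →* Perm (Fin n)) := by
    rw [← closure_three_cycles_eq_alternating, Subgroup.closure_le]
    intro τ hτ
    refine ⟨fun w hw => ofSubtype_apply_of_not_mem τ (fun hc => hc hw), by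
      rw [sign_ofSubtype]; exact IsThreeCycle.sign hτ, fun g hg => ?_⟩
    have hfix : ∀ w ∈ F, ofSubtype τ w = w := fun w hw => ofSubtype_apply_of_not_mem τ (fun hc => hc hw)
    have hc := c.comm_mem (a := d) (b := g) (by rw [hg]; exact hcom _ hfix)
    have hg3 : g ^ 3 ∈ Subgroup.center G := (c.ker _).1 (by
      rw [map_pow, hg, ← map_pow, ← IsThreeCycle.orderOf hτ, pow_orderOf_eq_one, map_one])
    rcases c.two _ hc with h | h
    · exact h
    exfalso
    have hconj : d * g * d⁻¹ = g * c.z := by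
      rw [commutatorElement_def] at h
      rw [mul_inv_eq_iff_eq_mul.1 h, c.z_comm]
    have h4 : d * g ^ 3 * d⁻¹ = g ^ 3 * c.z := by
      rw [← conj_pow, hconj, (show Commute g c.z from c.z_comm g).mul_pow, pow_succ c.z 2, sq, c.z_mul_z, one_mul]
    rw [Subgroup.mem_center_iff.1 hg3 d, mul_inv_cancel_right] at h4
    exact c.hz1 (by simpa using h4.symm)
  exact hle hrs

include c in
/-- Every element is a commutator. -/
theorem exists_commutator (hperf : commutator G = ⊤) (hn : 5 ≤ n) (g : G) : ∃ a b : G, a * b * a⁻¹ * b⁻¹ = g := by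
  classical
  by_cases h1 : c.pr g = 1
  · rcases c.two g ((c.ker g).1 h1) with rfl | rfl
    · exact ⟨1, 1, by simp⟩
    obtain ⟨p, q, r, s, hpq, hrs, hpr, hps, hqr, hqs⟩ : ∃ p q r s : Fin n,
        p ≠ q ∧ r ≠ s ∧ p ≠ r ∧ p ≠ s ∧ q ≠ r ∧ q ≠ s :=
      ⟨(⟨0, by omega⟩ : Fin n), (⟨1, by omega⟩ : Fin n), (⟨2, by omega⟩ : Fin n), (⟨3, by omega⟩ : Fin n),
        by simp [Fin.ext_iff], by simp [Fin.ext_iff], by simp [Fin.ext_iff], by simp [Fin.ext_iff],
        by simp [Fin.ext_iff], by simp [Fin.ext_iff]⟩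
    obtain ⟨a, ha⟩ := c.surj _ (double_cycleType hpr hqs hpq hps hqr.symm hrs).2
    obtain ⟨b, hb⟩ := c.surj _ (double_cycleType hpq hrs hpr hps hqr hqs).2
    exact ⟨a, b, by rw [← commutatorElement_def]; exact c.anticomm hperf hn hpq hrs hpr hps hqr hqs ha hb⟩
  set σ := c.pr g with hσdef
  obtain ⟨T, hT2, hTe, x, y, hC, hx, hy⟩ := rep_good hn (C := σ.cycleType) (fun a ha => two_le_of_mem_cycleType ha)
    ((sum_cycleType_le σ).trans (by simp)) (fun h => h1 (cycleType_eq_zero.1 h)) (by
      have := sign_of_cycleType σ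
      rw [c.sgn g] at this
      exact (neg_one_pow_eq_one_iff_even (by decide)).1 this.symm)
  obtain ⟨u, hu⟩ := isConj_iff.1 (isConj_iff_cycleType_eq.2 hC)
  set β := (u * y * u⁻¹)⁻¹ with hβ
  have hβT : β.cycleType = T := by rw [hβ, cycleType_inv, cycleType_conj, hy]
  obtain ⟨k, hk⟩ := isConj_iff.1 (isConj_iff_cycleType_eq.2 (show β.cycleType = (u * x * u⁻¹).cycleType by
    rw [hβT, cycleType_conj, hx]))
  have hσ : σ = k * β * k⁻¹ * β⁻¹ := by
    rw [hk, hβ, inv_inv, ← hu]; group
  obtain ⟨c1, hc1, c2, hc2, hne⟩ := Finset.one_lt_card.1 (show 1 < (β.cycleFactorsFinset.filter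
      fun τ => τ.support.card = 2).card by
    have : Multiset.count 2 β.cycleType = _ := congrArg (Multiset.count 2) hβT
    rw [cycleType_def, Multiset.count_map] at this
    rw [Finset.card_def, Finset.filter_val]
    simp only [Function.comp_apply] at this
    calc 1 < T.count 2 := hT2
      _ = _ := by rw [← this]; simp only [eq_comm])
  rw [Finset.mem_filter] at hc1 hc2
  obtain ⟨p, q, hpq, e1⟩ := card_support_eq_two.1 hc1.2
  obtain ⟨r, s, hrs, e2⟩ := card_support_eq_two.1 hc2.2
  have hval : ∀ {τ : Perm (Fin n)}, τ ∈ β.cycleFactorsFinset → ∀ w ∈ τ.support, β w = τ w := fun hτ w hw =>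
    ((mem_cycleFactorsFinset_iff.1 hτ).2 w hw).symm
  have hdis := (cycleFactorsFinset_pairwise_disjoint β) hc1.1 hc2.1 hne
  rw [disjoint_iff_disjoint_support, e1, e2, support_swap hpq, support_swap hrs] at hdis
  simp only [Finset.disjoint_insert_right, Finset.disjoint_singleton_right, Finset.mem_insert, Finset.mem_singleton,
    not_or] at hdis
  obtain ⟨⟨hrp, hrq⟩, hsp, hsq⟩ := hdis
  have hp := hval hc1.1 p (by rw [e1, support_swap hpq]; simp)
  have hq := hval hc1.1 q (by rw [e1, support_swap hpq]; simp)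
  have hr := hval hc2.1 r (by rw [e2, support_swap hrs]; simp)
  have hs := hval hc2.1 s (by rw [e2, support_swap hrs]; simp)
  rw [e1, swap_apply_left] at hp
  rw [e1, swap_apply_right] at hq
  rw [e2, swap_apply_left] at hr
  rw [e2, swap_apply_right] at hs
  obtain ⟨k', hk's, hk'⟩ : ∃ k', sign k' = 1 ∧ σ = k' * β * k'⁻¹ * β⁻¹ := by
    rcases Int.units_eq_one_or (sign k) with hks | hks
    · exact ⟨k, hks, hσ⟩
    refine ⟨k * c1, by rw [map_mul, hks, e1, sign_swap hpq]; decide, ?_⟩
    rw [hσ, mul_inv_rev, mul_assoc k c1, (self_mem_cycle_factors_commute hc1.1).eq]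
    group
  have hβs : sign β = 1 := by
    rw [sign_of_cycleType, hβT]; exact hTe.neg_one_pow
  have hds := double_cycleType hpq hrs (Ne.symm hrp) (Ne.symm hsp) (Ne.symm hrq) (Ne.symm hsq)
  have hes := double_cycleType (Ne.symm hrp) (Ne.symm hsq) hpq (Ne.symm hsp) hrq hrs
  obtain ⟨a, ha⟩ := c.surj k' hk's
  obtain ⟨d, hd⟩ := c.surj _ hes.2
  obtain ⟨b₁, hb₁⟩ := c.surj _ hds.2
  obtain ⟨b₂, hb₂⟩ := c.surj ((swap p q * swap r s) * β) (by rw [map_mul, hds.2, hβs, one_mul])
  have hinv : swap p q * swap r s * (swap p q * swap r s) = 1 := by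
    refine Equiv.ext fun w => ?_
    simp only [Perm.mul_apply, swap_apply_def, Perm.coe_one, id]
    split_ifs <;> simp_all
  have hb : c.pr (b₁ * b₂) = β := by rw [map_mul, hb₁, hb₂, ← mul_assoc, hinv, one_mul]
  have h12 : ⁅d, b₁⁆ = c.z := c.anticomm hperf hn hpq hrs (Ne.symm hrp) (Ne.symm hsp) (Ne.symm hrq) (Ne.symm hsq) hd hb₁
  have h22 : ⁅d, b₂⁆ = 1 := by
    refine c.off_commute (F := {p, q, r, s}) (fun w hw => ?_) (fun w hw => ?_) (fun w hw => ?_)
      (by rw [map_mul, hds.2, hβs, one_mul]) b₂ hb₂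
    · simp only [Finset.mem_insert, Finset.mem_singleton, not_or] at hw
      rw [hd, Perm.mul_apply, swap_apply_of_ne_of_ne hw.2.1 hw.2.2.2, swap_apply_of_ne_of_ne hw.1 hw.2.2.1]
    · simp only [Finset.mem_insert, Finset.mem_singleton] at hw ⊢
      rw [hd, Perm.mul_apply]
      simp only [swap_apply_def]
      split_ifs <;> simp_all
    · simp only [Finset.mem_insert, Finset.mem_singleton] at hw
      rcases hw with rfl | rfl | rfl | rfl <;>
        simp only [Perm.mul_apply, hp, hq, hr, hs, swap_apply_def] <;> split_ifs <;> simp_all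
  refine c.exists_commutator_aux (b := b₁ * b₂) (d := d) ?_ (a := a) ?_
  · rw [show ⁅d, b₁ * b₂⁆ = ⁅d, b₁⁆ * (b₁ * ⁅d, b₂⁆ * b₁⁻¹) by simp only [commutatorElement_def]; group, h22,
      h12, mul_one, mul_inv_cancel, mul_one]
  · rw [map_commutatorElement, ha, hb, commutatorElement_def, ← hk']

end Cover

end CfsgLib.AltOre
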