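import Mathlib.GroupTheory.Perm.Cycle.Type
import Mathlib.GroupTheory.Perm.Cycle.Concrete
import Mathlib.GroupTheory.Perm.List
import Mathlib.GroupTheory.SpecificGroups.Alternating

/-!
# Even permutations as products of two conjugates with two transpositions
-/

set_option autoImplicit false
set_option linter.style.haveILetI false

namespace CfsgLib.AltOre

open Equiv Equiv.Perm

/-- A permutation of type `C` on `k` points is a product of permutations of types `T₁` and `T₂`. -/
def Rep (k : ℕ) (C T₁ T₂ : Multiset ℕ) : Prop :=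
  ∃ x y : Perm (Fin k), (x * y).cycleType = C ∧ x.cycleType = T₁ ∧ y.cycleType = T₂

theorem Rep.symm {k : ℕ} {C T₁ T₂ : Multiset ℕ} (h : Rep k C T₁ T₂) : Rep k C T₂ T₁ := by
  obtain ⟨x, y, hC, h1, h2⟩ := h
  exact ⟨y⁻¹, x⁻¹, by rw [← mul_inv_rev, cycleType_inv, hC], by rw [cycleType_inv, h2], by rw [cycleType_inv, h1]⟩

/-- The first `k` points. -/
def lo {k m : ℕ} (h : k ≤ m) : Fin k ≃ {i : Fin m // (i : ℕ) < k} where
  toFun i := ⟨⟨i, by omega⟩, i.isLt⟩
  invFun j := ⟨j.1, j.2⟩
  left_inv _ := rfl
  right_inv _ := rfl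

/-- The last `m` points. -/
def hi (k m : ℕ) : Fin m ≃ {i : Fin (k + m) // ¬ (i : ℕ) < k} where
  toFun i := ⟨⟨k + i, by omega⟩, by simp⟩
  invFun j := ⟨(j.1 : ℕ) - k, by have := j.1.isLt; omega⟩
  left_inv i := by simp
  right_inv j := by
    have h : k ≤ (j.1 : ℕ) := Nat.le_of_not_lt j.2
    exact Subtype.ext (Fin.ext (by simp only; omega))

theorem Rep.mono {k m : ℕ} {C T₁ T₂ : Multiset ℕ} (h : Rep k C T₁ T₂) (hkm : k ≤ m) : Rep m C T₁ T₂ := by
  obtain ⟨x, y, hC, h1, h2⟩ := h
  refine ⟨x.extendDomain (lo hkm), y.extendDomain (lo hkm), ?_, ?_, ?_⟩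
  · rw [extendDomain_mul, cycleType_extendDomain, hC]
  · rw [cycleType_extendDomain, h1]
  · rw [cycleType_extendDomain, h2]

theorem disjoint_lo_hi {k m : ℕ} (x : Perm (Fin k)) (x' : Perm (Fin m)) :
    Perm.Disjoint (x.extendDomain (lo (Nat.le_add_right k m))) (x'.extendDomain (hi k m)) := fun i => by
  by_cases h : (i : ℕ) < k
  · exact Or.inr (extendDomain_apply_not_subtype _ _ (not_not.2 h))
  · exact Or.inl (extendDomain_apply_not_subtype _ _ h)

theorem Rep.add {k m : ℕ} {C T₁ T₂ C' T₁' T₂' : Multiset ℕ} (h : Rep k C T₁ T₂) (h' : Rep m C' T₁' T₂') :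
    Rep (k + m) (C + C') (T₁ + T₁') (T₂ + T₂') := by
  obtain ⟨x, y, hC, h1, h2⟩ := h
  obtain ⟨x', y', hC', h1', h2'⟩ := h'
  set e := lo (Nat.le_add_right k m)
  refine ⟨x.extendDomain e * x'.extendDomain (hi k m), y.extendDomain e * y'.extendDomain (hi k m), ?_, ?_, ?_⟩
  · rw [show x.extendDomain e * x'.extendDomain (hi k m) * (y.extendDomain e * y'.extendDomain (hi k m)) =
      x.extendDomain e * y.extendDomain e * (x'.extendDomain (hi k m) * y'.extendDomain (hi k m)) by
        rw [mul_assoc, ← mul_assoc (x'.extendDomain (hi k m)), ← (disjoint_lo_hi y x').commute.eq]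
        simp only [mul_assoc]
        rfl]
    rw [extendDomain_mul, extendDomain_mul, (disjoint_lo_hi _ _).cycleType_mul, cycleType_extendDomain,
      cycleType_extendDomain, hC, hC']
  · rw [(disjoint_lo_hi _ _).cycleType_mul, cycleType_extendDomain, cycleType_extendDomain, h1, h1']
  · rw [(disjoint_lo_hi _ _).cycleType_mul, cycleType_extendDomain, cycleType_extendDomain, h2, h2']

/-! ### Chains -/

/-- A full cycle as a product, the first factor fixing a point. -/
def Chain (m : ℕ) (T₁ T₂ : Multiset ℕ) : Prop :=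
  ∃ (x y : Perm (Fin m)) (l : List (Fin m)) (p : Fin m), l.Nodup ∧ l.length = m ∧ x * y = l.formPerm ∧
    x p = p ∧ x.cycleType = T₁ ∧ y.cycleType = T₂

theorem formPerm_map {α β : Type*} [DecidableEq α] [DecidableEq β] {f : α → β} (hf : Function.Injective f) :
    ∀ (l : List α) (a : α), (l.map f).formPerm (f a) = f (l.formPerm a)
  | [], a => rfl
  | [x], a => by simp
  | x :: y :: l, a => by
    have ih := formPerm_map hf (y :: l) a
    simp only [List.map_cons] at ih ⊢
    rw [List.formPerm_cons_cons, List.formPerm_cons_cons, Perm.mul_apply, Perm.mul_apply, ih,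
      hf.map_swap]

theorem Chain.step {m : ℕ} {T₁ T₂ : Multiset ℕ} (h : Chain m T₁ T₂) : Chain (m + 2) (T₁ + {2}) (T₂ + {2}) := by
  obtain ⟨x, y, l, p, hl, hlen, hxy, hp, h1, h2⟩ := h
  set e := lo (Nat.le_add_right m 2)
  set f : Fin m → Fin (m + 2) := fun i => (e i : Fin (m + 2)) with hfdef
  have hf : Function.Injective f := Subtype.val_injective.comp e.injective
  set X := x.extendDomain e
  set Y := y.extendDomain e
  set u : Fin (m + 2) := ⟨m, by omega⟩
  set v : Fin (m + 2) := ⟨m + 1, by omega⟩
  have hout : ∀ (z : Perm (Fin m)) (w : Fin (m + 2)), m ≤ (w : ℕ) → z.extendDomain e w = w := fun z w hw =>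
    extendDomain_apply_not_subtype _ _ (by omega)
  have hin : ∀ (z : Perm (Fin m)) (i : Fin m), z.extendDomain e (f i) = f (z i) := fun z i =>
    extendDomain_apply_image _ _ _
  set p' := y⁻¹ p
  have hXY : X * Y = (l.map f).formPerm := by
    rw [extendDomain_mul, hxy]
    refine Equiv.ext fun w => ?_
    by_cases hw : (w : ℕ) < m
    · obtain ⟨i, rfl⟩ : ∃ i, f i = w := ⟨⟨w, hw⟩, rfl⟩
      rw [hin, formPerm_map hf]
    · rw [hout _ _ (Nat.le_of_not_lt hw), List.formPerm_apply_of_notMem]
      simp only [List.mem_map, not_exists, not_and]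
      intro i _ hi
      exact hw (by rw [← hi]; exact i.isLt)
  have hYp : Y (f p') = f p := by rw [hin]; simp [p']
  have hYu : Y u = u := hout _ _ (le_refl m)
  have hYv : Y v = v := hout _ _ (Nat.le_succ m)
  have hmem : p' ∈ l := by
    have h : l.toFinset = Finset.univ := Finset.eq_univ_of_card _ (by
      rw [List.toFinset_card_of_nodup hl, hlen, Fintype.card_fin])
    exact List.mem_toFinset.1 (h ▸ Finset.mem_univ _)
  obtain ⟨a, b, hab⟩ := List.append_of_mem hmem
  set M := (b ++ a).map f
  have hrot : (l.map f).formPerm = (M ++ [f p']).formPerm := by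
    rw [← List.formPerm_rotate (l.map f) (hl.map hf) (a.length + 1)]
    congr 1
    rw [hab, show a ++ p' :: b = (a ++ [p']) ++ b by simp, List.map_append,
      show a.length + 1 = ((a ++ [p']).map f).length by simp, List.rotate_append_length_eq]
    simp [M]
  have hnd : (M ++ [f p'] ++ [u] ++ [v]).Nodup := by
    have h0 : (M ++ [f p']).Nodup := by
      have hperm : List.Perm (b ++ a ++ [p']) l := by
        rw [hab]
        exact List.perm_iff_count.2 fun c => by simp [List.count_append, List.count_cons]; omega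
      have := (hperm.nodup_iff.2 hl).map hf
      simpa [M] using this
    have hlt : ∀ w ∈ M ++ [f p'], (w : ℕ) < m := by
      intro w hw
      simp only [M, List.mem_append, List.mem_map, List.mem_singleton] at hw
      rcases hw with ⟨i, -, rfl⟩ | rfl
      · exact i.isLt
      · exact p'.isLt
    rw [List.nodup_append, List.nodup_append]
    refine ⟨⟨h0, List.nodup_singleton _, fun w hw z hz => ?_⟩, List.nodup_singleton _, fun w hw z hz => ?_⟩
    · rw [List.mem_singleton] at hz
      subst hz
      exact fun e' => absurd (hlt w hw) (by rw [e']; simp [u])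
    · rw [List.mem_singleton] at hz
      subst hz
      rcases List.mem_append.1 hw with hw | hw
      · exact fun e' => absurd (hlt w hw) (by rw [e']; simp [v])
      · rw [List.mem_singleton] at hw
        subst hw
        simp [u, v, Fin.ext_iff]
  have hXp : X (f p) = f p := by rw [hin, hp]
  have hpu : f p ≠ u := fun e' => absurd p.isLt (by have := congrArg Fin.val e'; simp [f, e, lo, u] at this; omega)
  refine ⟨X * swap (f p) u, swap u v * Y, M ++ [f p'] ++ [u] ++ [v], v, hnd, ?_, ?_, ?_, ?_, ?_⟩
  · have hl' : a.length + (b.length + 1) = m := by simpa [hab] using hlen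
    simp [M]
    omega
  · have e1 : swap (f p) u * (swap u v * Y) = Y * (swap (f p') u * swap u v) := by
      rw [← mul_assoc]
      have h := swap_apply_apply Y (f p') u
      have h' := swap_apply_apply Y u v
      rw [hYp, hYu] at h
      rw [hYu, hYv] at h'
      rw [h]
      conv_lhs => arg 1; arg 2; rw [h']
      group
    rw [mul_assoc X, e1, ← mul_assoc X Y, hXY, hrot]
    simp only [List.append_assoc, List.singleton_append]
    rw [show M ++ ([f p', u] ++ [v]) = (M ++ [f p']) ++ [u, v] by simp, List.formPerm_append_pair,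
      show M ++ [f p'] ++ [u] = M ++ [f p', u] by simp, List.formPerm_append_pair, mul_assoc]
  · rw [Perm.mul_apply, swap_apply_of_ne_of_ne, hout _ _ (Nat.le_succ m)]
    · exact fun e' => absurd p.isLt (by have := congrArg Fin.val e'; simp [f, e, lo, v] at this; omega)
    · simp [u, v, Fin.ext_iff]
  · rw [Perm.Disjoint.cycleType_mul, cycleType_extendDomain, h1, (IsSwap.isCycle ⟨_, _, hpu, rfl⟩).cycleType,
      support_swap hpu, Finset.card_pair hpu]
    intro w
    by_cases hw : w = f p ∨ w = u
    · rcases hw with rfl | rfl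
      · exact Or.inl hXp
      · exact Or.inl (hout _ _ (le_refl m))
    · exact Or.inr (swap_apply_of_ne_of_ne (fun h => hw (Or.inl h)) (fun h => hw (Or.inr h)))
  · have huv : u ≠ v := by simp [u, v, Fin.ext_iff]
    rw [Perm.Disjoint.cycleType_mul, cycleType_extendDomain, h2, (IsSwap.isCycle ⟨_, _, huv, rfl⟩).cycleType,
      support_swap huv, Finset.card_pair huv, add_comm]
    intro w
    by_cases hw : w = u ∨ w = v
    · rcases hw with rfl | rfl
      · exact Or.inr hYu
      · exact Or.inr hYv
    · exact Or.inl (swap_apply_of_ne_of_ne (fun h => hw (Or.inl h)) (fun h => hw (Or.inr h)))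

theorem Chain.iterate {m : ℕ} {T₁ T₂ : Multiset ℕ} (h : Chain m T₁ T₂) (i : ℕ) :
    Chain (m + 2 * i) (T₁ + Multiset.replicate i 2) (T₂ + Multiset.replicate i 2) := by
  induction i with
  | zero => simpa using h
  | succ i ih =>
    have := ih.step
    rwa [show m + 2 * i + 2 = m + 2 * (i + 1) by omega, add_assoc, add_assoc,
      show Multiset.replicate i 2 + {2} = Multiset.replicate (i + 1) 2 by
        rw [← Multiset.replicate_one 2, ← Multiset.replicate_add]] at this

theorem Chain.rep {m : ℕ} {T₁ T₂ : Multiset ℕ} (h : Chain m T₁ T₂) (hm : 2 ≤ m) : Rep m {m} T₁ T₂ := by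
  obtain ⟨x, y, l, p, hl, hlen, hxy, -, h1, h2⟩ := h
  refine ⟨x, y, ?_, h1, h2⟩
  rw [hxy, (List.isCycle_formPerm hl (by omega)).cycleType, List.support_formPerm_of_nodup _ hl,
    List.toFinset_card_of_nodup hl, hlen]
  intro a ha
  rw [ha] at hlen
  simp at hlen
  omega

theorem chain_one : Chain 1 0 0 :=
  ⟨1, 1, [0], 0, List.nodup_singleton _, rfl, by simp, rfl, cycleType_one, cycleType_one⟩

theorem chain_two : Chain 2 0 {2} :=
  ⟨1, swap 0 1, [0, 1], 0, by decide, rfl, by rw [one_mul, List.formPerm_pair], rfl, cycleType_one,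
    by decide⟩

theorem chain_five : Chain 5 {4} {4} :=
  ⟨List.formPerm [0, 1, 3, 4], List.formPerm [1, 3, 2, 4], [0, 1, 4, 3, 2] , 2, by decide, rfl, by decide, by decide,
    by decide, by decide⟩

/-- The weight of a type. -/
def rk (C : Multiset ℕ) : ℕ := (C.map (· - 1)).sum

theorem rk_cons (a : ℕ) (C : Multiset ℕ) : rk (a ::ₘ C) = a - 1 + rk C := by simp [rk]

/-- Involutive factorisations. -/
theorem rep_invol {C : Multiset ℕ} (hC : ∀ a ∈ C, 2 ≤ a) :
    Rep C.sum C (Multiset.replicate (rk C / 2) 2) (Multiset.replicate (rk C - rk C / 2) 2) := by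
  induction C using Multiset.induction_on with
  | empty => exact ⟨1, 1, (congrArg cycleType (mul_one 1)).trans cycleType_one, cycleType_one, cycleType_one⟩
  | cons a C ih =>
    have ha := hC a (Multiset.mem_cons_self a C)
    have h0 := ih fun b hb => hC b (Multiset.mem_cons_of_mem hb)
    rw [Multiset.sum_cons, ← Multiset.singleton_add a C, Multiset.singleton_add, rk_cons]
    rcases Nat.even_or_odd (a - 1) with ⟨i, hi⟩ | ⟨i, hi⟩
    · have h1 := ((chain_one.iterate i).rep (by omega)).add h0
      rw [Multiset.singleton_add, zero_add, ← Multiset.replicate_add, ← Multiset.replicate_add,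
        show 1 + 2 * i = a by omega] at h1
      convert h1 using 2 <;> omega
    · have h1 := (chain_two.iterate i).rep (by omega)
      rw [zero_add, show ({2} : Multiset ℕ) + Multiset.replicate i 2 = Multiset.replicate (1 + i) 2 by
        rw [Multiset.replicate_add, Multiset.replicate_one], show 2 + 2 * i = a by omega] at h1
      rcases Nat.even_or_odd (rk C) with ⟨r, hr⟩ | ⟨r, hr⟩
      · have h2 := h1.add h0
        rw [Multiset.singleton_add, ← Multiset.replicate_add, ← Multiset.replicate_add] at h2
        convert h2 using 2 <;> omega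
      · have h2 := h1.symm.add h0
        rw [Multiset.singleton_add, ← Multiset.replicate_add, ← Multiset.replicate_add] at h2
        convert h2 using 2 <;> omega

end CfsgLib.AltOre
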